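import Cfsg.Agent.Lib.Co2Three.Tools.Sim
import Mathlib.GroupTheory.QuotientGroup.Basic
import Mathlib.Data.Fintype.EquivFin

/-!
All similitudes are induced once the normaliser is transitive on singular vectors and the stabiliser of the
central point has the full order 144 modulo the elementary abelian subgroup.
-/

set_option autoImplicit false
set_option linter.style.haveILetI false

namespace Cfsg.Agent.Co2Three

open Matrix Subgroup

theorem bf_polar (u v : V4) : bf u v = qf (u + v) - qf u - qf v := by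
  simp only [bf, qf, Pi.add_apply]
  ring

theorem isSim_mult {M : Matrix (Fin 4) (Fin 4) (ZMod 3)} (h : IsSim M) :
    ∃ s : ZMod 3, (s = 1 ∨ s = -1) ∧ (∀ v, qf (M.mulVec v) = s * qf v) ∧
      ∀ u v, bf (M.mulVec u) (M.mulVec v) = s * bf u v := by
  obtain ⟨s, hs, hq⟩ : ∃ s : ZMod 3, (s = 1 ∨ s = -1) ∧ ∀ v, qf (M.mulVec v) = s * qf v :=
    h.elim (fun h => ⟨1, Or.inl rfl, fun v => by rw [h, one_mul]⟩)
      (fun h => ⟨-1, Or.inr rfl, fun v => by rw [h, neg_one_mul]⟩)
  refine ⟨s, hs, hq, fun u v => ?_⟩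
  rw [bf_polar, bf_polar, ← Matrix.mulVec_add, hq, hq, hq]
  ring

theorem isSim_mul {A B : Matrix (Fin 4) (Fin 4) (ZMod 3)} (hA : IsSim A) (hB : IsSim B) : IsSim (A * B) := by
  obtain ⟨s, hs, hsq, -⟩ := isSim_mult hA
  obtain ⟨t, ht, htq, -⟩ := isSim_mult hB
  have h : ∀ v, qf ((A * B).mulVec v) = s * t * qf v := fun v => by
    rw [← Matrix.mulVec_mulVec, hsq, htq, mul_assoc]
  rcases hs with rfl | rfl <;> rcases ht with rfl | rfl
  · exact Or.inl fun v => by rw [h]; ring
  · exact Or.inr fun v => by rw [h]; ring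
  · exact Or.inr fun v => by rw [h]; ring
  · exact Or.inl fun v => by rw [h]; ring

/-- The similitudes fixing the central point. -/
def Stab : Set (Matrix (Fin 4) (Fin 4) (ZMod 3)) := {M | IsSim M ∧ M.mulVec e0 = e0}

/-- The possible multipliers with the images of the anisotropic plane. -/
def planeMaps : Finset (ZMod 3 × (ZMod 3 × ZMod 3) × (ZMod 3 × ZMod 3)) :=
  Finset.univ.filter fun p => (p.1 = 1 ∨ p.1 = -1) ∧ p.2.1.1 * p.2.1.1 + p.2.1.2 * p.2.1.2 = p.1 ∧
    p.2.2.1 * p.2.2.1 + p.2.2.2 * p.2.2.2 = p.1 ∧ p.2.1.1 * p.2.2.1 + p.2.1.2 * p.2.2.2 = 0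

theorem card_planeMaps : planeMaps.card = 16 := by decide +kernel

theorem card_stab : Nat.card ↥Stab ≤ 144 := by
  have key : ∀ M : ↥Stab, ((M.1 3 3, (M.1 1 1, M.1 2 1), (M.1 1 2, M.1 2 2)) ∈ planeMaps) ∧
      M.1 0 0 = 1 ∧ M.1 1 0 = 0 ∧ M.1 2 0 = 0 ∧ M.1 3 0 = 0 ∧ M.1 3 1 = 0 ∧ M.1 3 2 = 0 ∧
      M.1 0 1 = 2 * M.1 3 3 * (M.1 1 1 * M.1 1 3 + M.1 2 1 * M.1 2 3) ∧
      M.1 0 2 = 2 * M.1 3 3 * (M.1 1 2 * M.1 1 3 + M.1 2 2 * M.1 2 3) ∧
      M.1 0 3 = M.1 3 3 * (M.1 1 3 * M.1 1 3 + M.1 2 3 * M.1 2 3) := by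
    rintro ⟨M, hS, h0⟩
    obtain ⟨s, hs, hq, hb⟩ := isSim_mult hS
    have col : ∀ i j, M.mulVec (Pi.single j 1) i = M i j := fun i j => by
      rw [Matrix.mulVec_single_one]; rfl
    have he0 : e0 = Pi.single 0 1 := by decide
    have he1 : e1 = Pi.single 1 1 := by decide
    have he2 : e2 = Pi.single 2 1 := by decide
    have he3 : e3 = Pi.single 3 1 := by decide
    have c0 : ∀ i, M i 0 = e0 i := fun i => by rw [← col i 0, ← he0, h0]
    have b01 := hb e0 e1
    have b02 := hb e0 e2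
    have b03 := hb e0 e3
    have b12 := hb e1 e2
    have b13 := hb e1 e3
    have b23 := hb e2 e3
    have q1 := hq e1
    have q2 := hq e2
    have q3 := hq e3
    rw [h0] at b01 b02 b03
    rw [he1, he2] at b12
    rw [he1, he3] at b13
    rw [he2, he3] at b23
    rw [he1] at b01 q1
    rw [he2] at b02 q2
    rw [he3] at b03 q3
    simp only [bf, qf, col, e0, Pi.single_apply, cons_val, Fin.reduceEq, ↓reduceIte, mul_one, mul_zero,
      zero_mul, add_zero, one_mul, sub_zero, zero_sub] at b01 b02 b03 b12 b13 b23 q1 q2 q3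
    have h33 : M 3 3 = s := by linear_combination b03
    have hss : s * s = 1 := by rcases hs with rfl | rfl <;> decide
    have h3 : (3 : ZMod 3) = 0 := rfl
    have h31 : M 3 1 = 0 := by linear_combination b01
    have h32 : M 3 2 = 0 := by linear_combination b02
    rw [h31] at q1 b13 b12
    rw [h32] at q2 b23 b12
    rw [h33] at b13 b23 q3
    simp only [mul_zero, zero_mul, add_zero] at q1 q2 b12 b13 b23
    refine ⟨?_, c0 0, c0 1, c0 2, c0 3, h31, h32, ?_, ?_, ?_⟩
    · refine Finset.mem_filter.2 ⟨Finset.mem_univ _, by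
      show M 3 3 = 1 ∨ M 3 3 = -1
      rw [h33]
      exact hs, ?_, ?_, ?_⟩
      · show M 1 1 * M 1 1 + M 2 1 * M 2 1 = M 3 3
        linear_combination -q1 - h33
      · show M 1 2 * M 1 2 + M 2 2 * M 2 2 = M 3 3
        linear_combination -q2 - h33
      · show M 1 1 * M 1 2 + M 2 1 * M 2 2 = 0
        linear_combination b12 + (M 1 1 * M 1 2 + M 2 1 * M 2 2) * h3
    · show M 0 1 = 2 * M 3 3 * (M 1 1 * M 1 3 + M 2 1 * M 2 3)
      rw [h33]
      linear_combination s * b13 - M 0 1 * hss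
    · show M 0 2 = 2 * M 3 3 * (M 1 2 * M 1 3 + M 2 2 * M 2 3)
      rw [h33]
      linear_combination s * b23 - M 0 2 * hss
    · show M 0 3 = M 3 3 * (M 1 3 * M 1 3 + M 2 3 * M 2 3)
      rw [h33]
      linear_combination s * q3 - M 0 3 * hss
  let F : ↥Stab → ↥planeMaps × (ZMod 3 × ZMod 3) := fun M => (⟨_, (key M).1⟩, (M.1 1 3, M.1 2 3))
  have hF : Function.Injective F := by
    intro A B h
    simp only [F, Prod.mk.injEq, Subtype.mk.injEq] at h
    obtain ⟨⟨h33, ⟨h11, h21⟩, h12, h22⟩, h13, h23⟩ := h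
    obtain ⟨-, a00, a10, a20, a30, a31, a32, a01, a02, a03⟩ := key A
    obtain ⟨-, b00, b10, b20, b30, b31, b32, b01, b02, b03⟩ := key B
    refine Subtype.ext (Matrix.ext fun i j => ?_)
    fin_cases i <;> fin_cases j <;> simp_all
  have h := Nat.card_le_card_of_injective F hF
  simpa [Nat.card_prod, Nat.card_eq_fintype_card, card_planeMaps] using h

variable {G : Type*} [Group G]

/-- All similitudes are induced. -/
theorem realise_of (el : V4 → G) (el_add : ∀ u v, el (u + v) = el u * el v)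
    (el_inj : Function.Injective el)
    (cent_J : ∀ g : G, (∀ v, Commute g (el v)) → ∃ v, g = el v)
    (fused : ∀ v, v ≠ 0 → ((∃ g : G, g * el e0 * g⁻¹ = el v) ↔ qf v = 0))
    (trans : ∀ v, v ≠ 0 → qf v = 0 →
      ∃ g : G, (∀ u, ∃ w, g * el u * g⁻¹ = el w) ∧ g * el e0 * g⁻¹ = el v)
    (N : Subgroup G) (hNz : ∀ g ∈ N, Commute g (el e0))
    (hNn : ∀ g ∈ N, ∀ v, ∃ w, g * el v * g⁻¹ = el w) (hN : Nat.card N = 144 * 81)
    (M : Matrix (Fin 4) (Fin 4) (ZMod 3)) (hM : IsSim M) :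
    ∃ g : G, ∀ v, g * el v * g⁻¹ = el (M.mulVec v) := by
  classical
  haveI : Finite N := Nat.finite_of_card_ne_zero (by rw [hN]; norm_num)
  choose A hA using fun g : N => norm_sim_of el el_add el_inj fused g (hNn g g.2)
  have hst : ∀ g, A g ∈ Stab := fun g => ⟨(hA g).1, el_inj (by
    rw [← (hA g).2, (hNz g g.2).eq, mul_inv_cancel_right])⟩
  let J : Subgroup N :=
    { carrier := {g | ∀ v, Commute (g : G) (el v)}
      one_mem' := fun v => by simp
      mul_mem' := fun {a b} ha hb v => by simpa using (ha v).mul_left (hb v)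
      inv_mem' := fun {a} ha v => by simpa using (ha v).inv_left }
  have hJ : Nat.card J ≤ 81 := by
    have h : ∀ g : J, ∃ v, ((g : N) : G) = el v := fun g => cent_J _ g.2
    choose w hw using h
    refine le_trans (Nat.card_le_card_of_injective w fun a b hab => ?_)
      (le_of_eq (by simp [Nat.card_eq_fintype_card, V4]))
    exact Subtype.ext (Subtype.ext (by rw [hw, hw, hab]))
  let f : N ⧸ J → ↥Stab := Quotient.lift (fun g => (⟨A g, hst g⟩ : ↥Stab)) (by
    intro a b hab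
    have hab' : a⁻¹ * b ∈ J := QuotientGroup.leftRel_apply.1 hab
    refine Subtype.ext (Matrix.ext_of_mulVec_single fun j => el_inj ?_)
    rw [← (hA a).2, ← (hA b).2]
    set x := el (Pi.single j (1 : ZMod 3))
    have h : Commute ((a : G)⁻¹ * b) x := by simpa using hab' (Pi.single j (1 : ZMod 3))
    calc (a : G) * x * (a : G)⁻¹
        = (a : G) * (((a : G)⁻¹ * b) * x * ((a : G)⁻¹ * b)⁻¹) * (a : G)⁻¹ := by
          rw [h.eq, mul_inv_cancel_right]
      _ = (b : G) * x * (b : G)⁻¹ := by group)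
  have hf : Function.Injective f := by
    intro a b
    refine Quotient.inductionOn₂ a b fun a b h => Quotient.sound ?_
    refine QuotientGroup.leftRel_apply.2 fun v => ?_
    have h1 : A a = A b := congrArg Subtype.val h
    have h2 : (a : G) * el v * (a : G)⁻¹ = (b : G) * el v * (b : G)⁻¹ := by rw [(hA a).2, (hA b).2, h1]
    show ((a⁻¹ * b : N) : G) * el v = el v * ((a⁻¹ * b : N) : G)
    push_cast
    calc (a : G)⁻¹ * b * el v = (a : G)⁻¹ * ((b : G) * el v * (b : G)⁻¹) * b := by group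
      _ = (a : G)⁻¹ * ((a : G) * el v * (a : G)⁻¹) * b := by rw [h2]
      _ = el v * ((a : G)⁻¹ * b) := by group
  haveI : Finite ↥Stab := Subtype.finite
  have hcard : Nat.card ↥Stab ≤ Nat.card (N ⧸ J) := by
    refine card_stab.trans ?_
    have h := J.card_mul_index
    rw [index_eq_card, hN] at h
    by_contra hlt
    have : Nat.card J * Nat.card (N ⧸ J) ≤ 81 * 143 := Nat.mul_le_mul hJ (by omega)
    omega
  have hbij := (Nat.bijective_iff_injective_and_card f).2
    ⟨hf, le_antisymm (Nat.card_le_card_of_injective f hf) hcard⟩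
  -- move the central point
  obtain ⟨s, hs, hsq, -⟩ := isSim_mult hM
  have hinj : Function.Injective M.mulVec := by
    intro u w huw
    by_contra hne
    have hd : ∀ d : V4, d ≠ 0 → ∃ v, bf d v ≠ 0 := by decide +kernel
    obtain ⟨v, hv⟩ := hd (u - w) (sub_ne_zero.2 hne)
    obtain ⟨t, ht, -, htb⟩ := isSim_mult hM
    have h := htb (u - w) v
    rw [Matrix.mulVec_sub, huw, sub_self] at h
    have h0 : bf 0 (M.mulVec v) = 0 := by simp [bf]
    rw [h0] at h
    have ht0 : t ≠ 0 := by rcases ht with rfl | rfl <;> decide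
    exact hv ((show ∀ a b : ZMod 3, a * b = 0 → a ≠ 0 → b = 0 by decide) _ _ h.symm ht0)
  have hv0 : M.mulVec e0 ≠ 0 := fun h => absurd (hinj (h.trans (Matrix.mulVec_zero M).symm)) (by decide)
  have hvq : qf (M.mulVec e0) = 0 := by rw [hsq, show qf e0 = 0 by decide, mul_zero]
  obtain ⟨g, hgn, hge⟩ := trans _ hv0 hvq
  obtain ⟨B, hB, hgB⟩ := norm_sim_of el el_add el_inj fused g hgn
  -- the inverse of the moving element
  have hBinj : Function.Injective B.mulVec := by
    intro u w huw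
    have h : g * el u * g⁻¹ = g * el w * g⁻¹ := by rw [hgB, hgB, huw]
    exact el_inj (mul_left_cancel (mul_right_cancel h))
  have hginv : ∀ v, ∃ w, g⁻¹ * el v * g⁻¹⁻¹ = el w := by
    intro v
    obtain ⟨w, rfl⟩ := (Finite.injective_iff_surjective.1 hBinj) v
    exact ⟨w, by rw [← hgB]; group⟩
  obtain ⟨B', hB', hgB'⟩ := norm_sim_of el el_add el_inj fused g⁻¹ hginv
  have hBB' : B'.mulVec (M.mulVec e0) = e0 := el_inj (by rw [← hgB', ← hge]; group)
  obtain ⟨q, hq⟩ := hbij.2 ⟨B' * M, isSim_mul hB' hM, by rw [← Matrix.mulVec_mulVec, hBB']⟩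
  obtain ⟨n, rfl⟩ := Quotient.exists_rep q
  have hAn : A n = B' * M := congrArg Subtype.val hq
  refine ⟨g * n, fun v => ?_⟩
  have h := (hA n).2 v
  rw [hAn, ← Matrix.mulVec_mulVec, ← hgB'] at h
  calc g * n * el v * (g * n)⁻¹ = g * ((n : G) * el v * (n : G)⁻¹) * g⁻¹ := by group
    _ = el (M.mulVec v) := by rw [h]; group

end Cfsg.Agent.Co2Three
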