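import Mathlib.GroupTheory.Index
import Mathlib.GroupTheory.SpecificGroups.Cyclic
import Mathlib.GroupTheory.OrderOfElement
import Mathlib.Tactic.Group
import Cfsg.Prelude.Def_Transfer

/-!
The extraspecial group of order 243 inside a group: centralisers of non-central elements and abelian
subgroups.
-/

set_option autoImplicit false
set_option linter.style.haveILetI false

namespace Cfsg.Agent.Co2Three

open Subgroup

variable {G : Type*} [Group G]

/-- An extraspecial subgroup of order 243 with centre generated by `z`. -/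
structure Core (Q : Subgroup G) (z : G) : Prop where
  card : Nat.card Q = 243
  mem : z ∈ Q
  ord : orderOf z = 3
  centre : ∀ x ∈ Q, (∀ q ∈ Q, x * q = q * x) ↔ x ∈ zpowers z
  comm : ∀ x ∈ Q, ∀ y ∈ Q, x * y * x⁻¹ * y⁻¹ ∈ zpowers z

namespace Core

variable {Q : Subgroup G} {z : G}

theorem commute (C : Core Q z) {w q : G} (hw : w ∈ zpowers z) (hq : q ∈ Q) : w * q = q * w :=
  (C.centre w (zpowers_le.2 C.mem hw)).2 hw q hq

theorem zpowers_le_Q (C : Core Q z) : zpowers z ≤ Q := zpowers_le.2 C.mem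

theorem card_zpowers (C : Core Q z) : Nat.card (zpowers z) = 3 := by
  rw [Nat.card_zpowers, C.ord]

/-- The commutator with a fixed element. -/
def comHom (C : Core Q z) (b : G) (hb : b ∈ Q) : Q →* zpowers z where
  toFun q := ⟨q * b * (q : G)⁻¹ * b⁻¹, C.comm q q.2 b hb⟩
  map_one' := Subtype.ext (by simp)
  map_mul' q r := Subtype.ext (by
    have h : (r : G) * b * (r : G)⁻¹ * b⁻¹ * q = q * ((r : G) * b * (r : G)⁻¹ * b⁻¹) :=
      C.commute (C.comm r r.2 b hb) q.2
    show (q : G) * r * b * ((q : G) * r)⁻¹ * b⁻¹ =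
      (q : G) * b * (q : G)⁻¹ * b⁻¹ * ((r : G) * b * (r : G)⁻¹ * b⁻¹)
    have hc : (q : G) * b * (q : G)⁻¹ * b⁻¹ * ((r : G) * b * (r : G)⁻¹ * b⁻¹) =
        ((r : G) * b * (r : G)⁻¹ * b⁻¹) * ((q : G) * b * (q : G)⁻¹ * b⁻¹) :=
      C.commute (C.comm q q.2 b hb) (mul_mem (mul_mem (mul_mem r.2 hb) (inv_mem r.2)) (inv_mem hb))
    rw [hc, ← mul_assoc, ← mul_assoc, ← mul_assoc, h]
    group)

theorem comHom_eq_one (C : Core Q z) {b : G} (hb : b ∈ Q) {q : Q} :
    C.comHom b hb q = 1 ↔ Commute (q : G) b := by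
  rw [← Subtype.coe_inj]
  show (q : G) * b * (q : G)⁻¹ * b⁻¹ = 1 ↔ _
  rw [mul_inv_eq_one, mul_inv_eq_iff_eq_mul]
  rfl

theorem comHom_surjective (C : Core Q z) {b : G} (hb : b ∈ Q) (hbz : b ∉ zpowers z) :
    Function.Surjective (C.comHom b hb) := by
  rw [← MonoidHom.range_eq_top]
  haveI : Fact (Nat.card (zpowers z)).Prime := ⟨C.card_zpowers.symm ▸ Nat.prime_three⟩
  refine ((C.comHom b hb).range.eq_bot_or_eq_top_of_prime_card).resolve_left fun h => hbz ?_
  refine (C.centre b hb).1 fun q hq => ?_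
  have h1 : C.comHom b hb ⟨q, hq⟩ = 1 := by
    rw [← mem_bot (G := zpowers z), ← h]
    exact ⟨_, rfl⟩
  exact ((C.comHom_eq_one hb).1 h1).symm

theorem map_ker_comHom (C : Core Q z) {b : G} (hb : b ∈ Q) :
    (C.comHom b hb).ker.map Q.subtype = Q ⊓ centralizer {b} := by
  ext x
  constructor
  · rintro ⟨q, hq, rfl⟩
    exact ⟨q.2, mem_centralizer_singleton_iff.2 ((C.comHom_eq_one hb).1 hq).eq⟩
  · rintro ⟨hx, hc⟩
    exact ⟨⟨x, hx⟩, (C.comHom_eq_one hb).2 (mem_centralizer_singleton_iff.1 hc), rfl⟩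

theorem card_inf_centralizer (C : Core Q z) {b : G} (hb : b ∈ Q) (hbz : b ∉ zpowers z) :
    Nat.card ↥(Q ⊓ centralizer {b}) = 81 := by
  rw [← C.map_ker_comHom hb, card_subtype]
  have h := (C.comHom b hb).ker.card_mul_index
  rw [index_ker, MonoidHom.range_eq_top.2 (C.comHom_surjective hb hbz), card_top, C.card_zpowers,
    C.card] at h
  omega

theorem centre_inf_centralizer (C : Core Q z) {b : G} (hb : b ∈ Q) (hbz : b ∉ zpowers z) {x : G}
    (hx : x ∈ Q ⊓ centralizer {b}) :
    (∀ q ∈ Q ⊓ centralizer {b}, x * q = q * x) ↔ ∃ i j : ℕ, x = z ^ i * b ^ j := by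
  obtain ⟨hxQ, hxb⟩ := hx
  constructor
  · intro hc
    obtain ⟨q₀, hq₀⟩ := C.comHom_surjective hb hbz ⟨z, mem_zpowers z⟩
    have hn : ¬ Commute (q₀ : G) b := fun hc0 => by
      have h1 := ((C.comHom_eq_one hb).2 hc0)
      rw [hq₀, ← Subtype.coe_inj] at h1
      have h2 := C.ord
      rw [show z = 1 from h1, orderOf_one] at h2
      omega
    -- the value of the commutator with `q₀` at `x` is a power of the value at `b`
    set ψ := C.comHom (q₀ : G) q₀.2 with hψ
    have hψb : ψ ⟨b, hb⟩ ≠ 1 := fun h => hn ((C.comHom_eq_one q₀.2).1 h).symm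
    haveI : Fact (Nat.card (zpowers z)).Prime := ⟨C.card_zpowers.symm ▸ Nat.prime_three⟩
    have hgen : ψ ⟨x, hxQ⟩ ∈ zpowers (ψ ⟨b, hb⟩) :=
      mem_zpowers_of_prime_card C.card_zpowers hψb
    haveI : Finite (zpowers z) := Nat.finite_of_card_ne_zero (by rw [C.card_zpowers]; norm_num)
    haveI : Finite Q := Nat.finite_of_card_ne_zero (by rw [C.card]; norm_num)
    obtain ⟨k, hk : ψ ⟨b, hb⟩ ^ k = ψ ⟨x, hxQ⟩⟩ :=
      (isOfFinOrder_of_finite _).mem_powers_iff_mem_zpowers.2 hgen
    -- the difference is central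
    set y : Q := ⟨x, hxQ⟩ * (⟨b, hb⟩ ^ k)⁻¹ with hy
    have hy1 : ψ y = 1 := by rw [hy, map_mul, map_inv, map_pow, hk, mul_inv_cancel]
    have hyD : ∀ q ∈ Q ⊓ centralizer {b}, Commute (y : G) q := by
      intro q hq
      have h1 : Commute x q := hc q hq
      have h2 : Commute b q := (mem_centralizer_singleton_iff.1 hq.2).symm
      simpa [hy] using h1.mul_left (h2.pow_left k).inv_left
    let Y := (C.comHom (y : G) y.2).ker
    have hY : Y = ⊤ := by
      have hle : (C.comHom b hb).ker ≤ Y := fun q hq =>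
        (C.comHom_eq_one y.2).2 (hyD q ⟨q.2, mem_centralizer_singleton_iff.2
          ((C.comHom_eq_one hb).1 hq).eq⟩).symm
      have hq₀Y : q₀ ∈ Y := (C.comHom_eq_one y.2).2 ((C.comHom_eq_one q₀.2).1 hy1).symm
      have hq₀D : q₀ ∉ (C.comHom b hb).ker := fun h => hn ((C.comHom_eq_one hb).1 h)
      have hi : (C.comHom b hb).ker.index = 3 := by
        rw [index_ker, MonoidHom.range_eq_top.2 (C.comHom_surjective hb hbz), card_top, C.card_zpowers]
      have h3 := relIndex_mul_index hle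
      rw [hi] at h3
      rcases Nat.prime_three.eq_one_or_self_of_dvd _ (Dvd.intro_left _ h3) with h | h
      · exact index_eq_one.1 h
      · rw [h] at h3
        exact absurd (relIndex_eq_one.1 (by omega) hq₀Y) hq₀D
    have hyz : (y : G) ∈ zpowers z := (C.centre _ y.2).1 fun q hq => by
      have hm : (⟨q, hq⟩ : Q) ∈ Y := hY ▸ mem_top _
      exact ((C.comHom_eq_one y.2).1 hm).symm.eq
    haveI : Finite Q := Nat.finite_of_card_ne_zero (by rw [C.card]; norm_num)
    obtain ⟨i, hi⟩ := mem_zpowers_iff.1 hyz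
    refine ⟨(i % 3).toNat, k, ?_⟩
    have hx' : x = z ^ i * b ^ k := by
      rw [hi, hy]
      simp
    rw [hx', ← zpow_mod_orderOf z i, C.ord, ← zpow_natCast z (i % 3).toNat,
      Int.toNat_of_nonneg (Int.emod_nonneg i (by norm_num))]
    rfl
  · rintro ⟨i, j, rfl⟩ q ⟨hq, hqb⟩
    have h1 : Commute (z ^ i) q := C.commute (pow_mem (mem_zpowers z) i) hq
    have h2 : Commute b q := (mem_centralizer_singleton_iff.1 hqb).symm
    exact (h1.mul_left (h2.pow_left j)).eq

/-- An abelian subgroup has order at most 27. -/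
theorem card_abelian_le (C : Core Q z) {A : Subgroup G} (hA : A ≤ Q)
    (hab : ∀ a ∈ A, ∀ b ∈ A, a * b = b * a) : Nat.card A ≤ 27 := by
  haveI : Finite Q := Nat.finite_of_card_ne_zero (by rw [C.card]; norm_num)
  by_cases h : ∃ b ∈ A, b ∉ zpowers z
  · obtain ⟨b, hbA, hbz⟩ := h
    have hb : b ∈ Q := hA hbA
    have hAD : A ≤ Q ⊓ centralizer {b} :=
      le_inf hA fun a ha => mem_centralizer_singleton_iff.2 (hab a ha b hbA)
    haveI : Finite ↥(Q ⊓ centralizer {b}) :=
      Finite.of_injective (inclusion (inf_le_left : Q ⊓ centralizer {b} ≤ Q)) (inclusion_injective _)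
    have hd := card_dvd_of_le hAD
    rw [C.card_inf_centralizer hb hbz] at hd
    obtain ⟨e, he, hAe⟩ := (Nat.dvd_prime_pow Nat.prime_three).1 (show Nat.card A ∣ 3 ^ 4 from hd)
    rw [hAe]
    rcases (show e ≤ 3 ∨ e = 4 by omega) with he3 | rfl
    · exact (Nat.pow_le_pow_right (by norm_num) he3).trans (by norm_num)
    · have hAeq : A = Q ⊓ centralizer {b} := eq_of_le_of_card_ge hAD
        (by rw [C.card_inf_centralizer hb hbz, hAe]; norm_num)
      -- then every element of `A` is in `⟨z, b⟩`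
      exfalso
      have hsub : ∀ a ∈ A, ∃ i j : ℕ, a = z ^ i * b ^ j := fun a ha =>
        (C.centre_inf_centralizer hb hbz (hAD ha)).1 fun q hq => hab a ha q (hAeq ▸ hq)
      have hbo : b ^ orderOf b = 1 := pow_orderOf_eq_one b
      have hcard : Nat.card A ≤ 3 * orderOf b := by
        have hsur : (A : Set G) ⊆ Set.range fun p : Fin 3 × Fin (orderOf b) => z ^ (p.1 : ℕ) * b ^ (p.2 : ℕ) := by
          intro a ha
          obtain ⟨i, j, rfl⟩ := hsub a ha
          have hbp : 0 < orderOf b :=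
            (show IsOfFinOrder b from
              (Subgroup.subtype Q).isOfFinOrder (isOfFinOrder_of_finite (⟨b, hb⟩ : Q))).orderOf_pos
          refine ⟨(⟨i % 3, Nat.mod_lt _ (by norm_num)⟩, ⟨j % orderOf b, Nat.mod_lt _ hbp⟩), ?_⟩
          show z ^ (i % 3) * b ^ (j % orderOf b) = _
          rw [pow_mod_orderOf, ← C.ord, pow_mod_orderOf]
        calc Nat.card A ≤ Nat.card (Set.range fun p : Fin 3 × Fin (orderOf b) =>
              z ^ (p.1 : ℕ) * b ^ (p.2 : ℕ)) := Nat.card_mono (Set.finite_range _) hsur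
          _ ≤ Nat.card (Fin 3 × Fin (orderOf b)) := Finite.card_range_le _
          _ = 3 * orderOf b := by simp
      -- the cube of `b` is central
      have hb9 : orderOf b ≤ 9 := by
        refine orderOf_le_of_pow_eq_one (by norm_num) ?_
        obtain ⟨q₀, hq₀⟩ := C.comHom_surjective hb hbz ⟨z, mem_zpowers z⟩
        have hb3 : b ^ 3 ∈ zpowers z := by
          refine (C.centre _ (pow_mem hb 3)).1 fun q hq => ?_
          have h1 : C.comHom q hq (⟨b, hb⟩ ^ 3) = 1 := by
            rw [map_pow, ← C.card_zpowers]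
            exact pow_card_eq_one'
          exact ((C.comHom_eq_one hq).1 h1).eq
        obtain ⟨m, hm⟩ := mem_zpowers_iff.1 hb3
        rw [show (9 : ℕ) = 3 * 3 from rfl, pow_mul, ← hm, ← zpow_natCast, ← zpow_mul, mul_comm,
          zpow_mul, zpow_natCast, ← C.ord, pow_orderOf_eq_one, one_zpow]
      omega
  · have hle : A ≤ zpowers z := fun a ha => not_not.1 fun hn => h ⟨a, ha, hn⟩
    haveI : Finite (zpowers z) := Nat.finite_of_card_ne_zero (by rw [C.card_zpowers]; norm_num)
    have := Nat.le_of_dvd (by rw [C.card_zpowers]; norm_num) (card_dvd_of_le hle)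
    rw [C.card_zpowers] at this
    omega

/-- An abelian subgroup of order 27 is self-centralising in the core. -/
theorem self_centralising (C : Core Q z) {A : Subgroup G} (hA : A ≤ Q)
    (hab : ∀ a ∈ A, ∀ b ∈ A, a * b = b * a) (h27 : 27 ≤ Nat.card A) {x : G} (hx : x ∈ Q)
    (hxA : ∀ a ∈ A, x * a = a * x) : x ∈ A := by
  haveI : Finite Q := Nat.finite_of_card_ne_zero (by rw [C.card]; norm_num)
  by_contra hn
  let B : Subgroup G := closure (insert x (A : Set G))
  have hBQ : B ≤ Q := (closure_le Q).2 (Set.insert_subset_iff.2 ⟨hx, hA⟩)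
  haveI : IsMulCommutative B := isMulCommutative_closure (by
    intro a ha b hb
    rcases Set.mem_insert_iff.1 ha with rfl | ha' <;> rcases Set.mem_insert_iff.1 hb with rfl | hb'
    · rfl
    · exact hxA b hb'
    · exact (hxA a ha').symm
    · exact hab a ha' b hb')
  have hle : A ≤ B := fun a ha => subset_closure (Set.mem_insert_of_mem _ ha)
  haveI : Finite B := Finite.of_injective (inclusion hBQ) (inclusion_injective hBQ)
  have h := C.card_abelian_le hBQ fun a ha b hb =>
    congrArg Subtype.val (mul_comm' (⟨a, ha⟩ : B) ⟨b, hb⟩)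
  have heq : A = B := eq_of_le_of_card_ge hle (h.trans h27)
  exact hn (heq ▸ subset_closure (Set.mem_insert x _))

end Core

end Cfsg.Agent.Co2Three
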