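import Cfsg.Agent.Lib.Co2Three.Defs
import Cfsg.Agent.Lib.Co2Three.Tools.Extra
import Cfsg.Agent.Lib.CoprimeLength.Main
import Mathlib.Algebra.Module.ZMod

/-!
The elementary abelian subgroup of order 81 has no non-trivial signaliser, and the consequence of a secant.
-/

set_option autoImplicit false
set_option linter.style.haveILetI false

namespace Cfsg.Agent.Co2Three

open Subgroup

variable {G : Type*} [Group G] {Q : Subgroup G} {z : G}

/-- A coprime element centralising an abelian subgroup of order 27 centralises the core. -/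
theorem Core.centralise_of_coprime (C : Core Q z) {k : G} (hkQ : ∀ q ∈ Q, k * q * k⁻¹ ∈ Q)
    (hk : (orderOf k).Coprime 3) {A : Subgroup G} (hA : A ≤ Q)
    (hab : ∀ a ∈ A, ∀ b ∈ A, a * b = b * a) (h27 : 27 ≤ Nat.card A)
    (hkA : ∀ a ∈ A, Commute k a) : ∀ q ∈ Q, Commute k q := by
  intro q hq
  have hzA : z ∈ A := C.self_centralising hA hab h27 C.mem fun a ha =>
    C.commute (mem_zpowers z) (hA ha)
  have hd : q⁻¹ * (k * q * k⁻¹) ∈ A := by
    refine C.self_centralising hA hab h27 (mul_mem (inv_mem hq) (hkQ q hq)) fun a ha => ?_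
    have hc : q * a * q⁻¹ * a⁻¹ ∈ A := zpowers_le.2 hzA (C.comm q hq a (hA ha))
    have hb : q * a * q⁻¹ ∈ A := by simpa using mul_mem hc ha
    have h1 : k * (q * a * q⁻¹) * k⁻¹ = q * a * q⁻¹ := by
      rw [(hkA _ hb).eq, mul_inv_cancel_right]
    have h2 : k * a * k⁻¹ = a := by rw [(hkA a ha).eq, mul_inv_cancel_right]
    calc q⁻¹ * (k * q * k⁻¹) * a = q⁻¹ * (k * q * k⁻¹) * (k * a * k⁻¹) := by rw [h2]
      _ = q⁻¹ * (k * (q * a * q⁻¹) * k⁻¹) * (k * q * k⁻¹) := by group
      _ = q⁻¹ * (q * a * q⁻¹) * (k * q * k⁻¹) := by rw [h1]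
      _ = a * (q⁻¹ * (k * q * k⁻¹)) := by group
  set d := q⁻¹ * (k * q * k⁻¹) with hdd
  have hkq : k * q * k⁻¹ = q * d := by rw [hdd]; group
  have hpow : ∀ n : ℕ, k ^ n * q * (k ^ n)⁻¹ = q * d ^ n := by
    intro n
    induction n with
    | zero => simp
    | succ n ih =>
      have hkd : k * d ^ n * k⁻¹ = d ^ n := by
        rw [((hkA d hd).pow_right n).eq, mul_inv_cancel_right]
      calc k ^ (n + 1) * q * (k ^ (n + 1))⁻¹ = k * (k ^ n * q * (k ^ n)⁻¹) * k⁻¹ := by
            rw [pow_succ']; group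
        _ = k * q * k⁻¹ * (k * d ^ n * k⁻¹) := by rw [ih]; group
        _ = q * (d * d ^ n) := by rw [hkq, hkd, mul_assoc]
        _ = q * d ^ (n + 1) := by rw [pow_succ']
  have h1 : d ^ orderOf k = 1 := by
    have h := hpow (orderOf k)
    rw [pow_orderOf_eq_one, one_mul, inv_one, mul_one] at h
    exact mul_eq_left.1 h.symm
  have h2 : d ^ 243 = 1 := by
    have h := pow_card_eq_one' (x := (⟨d, hA hd⟩ : Q))
    rw [C.card] at h
    exact congrArg Subtype.val h
  have hd1 : d = 1 := by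
    refine orderOf_eq_one_iff.1 (Nat.eq_one_of_dvd_coprimes (a := orderOf k) (b := 243) ?_ ?_ ?_)
    · exact hk.pow_right 5
    · exact orderOf_dvd_of_pow_eq_one h1
    · exact orderOf_dvd_of_pow_eq_one h2
  rw [hd1, mul_one] at hkq
  exact mul_inv_eq_iff_eq_mul.1 hkq

/-- No signaliser inside the centraliser of the central element. -/
theorem Core.sig_trivial [Finite G] (C : Core Q z) (hQz : Q ≤ centralizer {z})
    (hQn : ∀ g ∈ centralizer ({z} : Set G), ∀ q ∈ Q, g * q * g⁻¹ ∈ Q)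
    (hCQ : ∀ g : G, Commute g z → (∀ q ∈ Q, Commute g q) → g ∈ Q)
    (hcard : Nat.card ↥(centralizer ({z} : Set G)) = 243 * 1920)
    {E K : Subgroup G} (hE : E ≤ centralizer {z}) (hab : ∀ a ∈ E, ∀ b ∈ E, a * b = b * a)
    (h81 : Nat.card E = 81) (hK : K ≤ centralizer {z}) (hcop : (Nat.card K).Coprime 3)
    (hEK : ∀ e ∈ E, ∀ k ∈ K, e * k * e⁻¹ ∈ K) : K = ⊥ := by
  have h27 : 27 ≤ Nat.card ↥(E ⊓ Q) := by
    haveI : (Q.subgroupOf (centralizer {z})).Normal :=
      ⟨fun q hq g => hQn g g.2 q hq⟩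
    have hd := relIndex_dvd_index_of_normal (Q.subgroupOf (centralizer ({z} : Set G)))
      (E.subgroupOf (centralizer ({z} : Set G)))
    rw [relIndex_subgroupOf hE] at hd
    have hi : (Q.subgroupOf (centralizer ({z} : Set G))).index = 1920 := by
      have h := (Q.subgroupOf (centralizer ({z} : Set G))).card_mul_index
      rw [Nat.card_congr (subgroupOfEquivOfLe hQz).toEquiv, C.card, hcard] at h
      omega
    rw [hi] at hd
    have h := (Q.subgroupOf E).card_mul_index
    have hc : Nat.card ↥(Q.subgroupOf E) = Nat.card ↥(E ⊓ Q) := by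
      rw [← inf_subgroupOf_right, inf_comm Q E,
        Nat.card_congr (subgroupOfEquivOfLe inf_le_left).toEquiv]
    rw [hc, h81] at h
    have hr : Q.relIndex E ∣ 81 := Dvd.intro_left _ h
    have h3 : Q.relIndex E ∣ 3 := by
      have := Nat.dvd_gcd hr hd
      norm_num at this
      exact this
    have : Q.relIndex E ≤ 3 := Nat.le_of_dvd (by norm_num) h3
    change _ * Q.relIndex E = 81 at h
    nlinarith
  refine (eq_bot_iff_forall K).2 fun k hk => ?_
  have hko : (orderOf k).Coprime 3 := hcop.coprime_dvd_left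
    (by simpa using orderOf_dvd_natCard (⟨k, hk⟩ : K))
  have hkQ : ∀ q ∈ Q, k * q * k⁻¹ ∈ Q := hQn k (hK hk)
  have hinQ : ∀ x ∈ K, x ∈ Q → x = 1 := by
    intro x hxK hxQ
    refine orderOf_eq_one_iff.1 (Nat.eq_one_of_dvd_coprimes (a := Nat.card K) (b := 243) ?_ ?_ ?_)
    · exact hcop.pow_right 5
    · simpa using orderOf_dvd_natCard (⟨x, hxK⟩ : K)
    · rw [← C.card]
      simpa using orderOf_dvd_natCard (⟨x, hxQ⟩ : Q)
  have hkA : ∀ a ∈ E ⊓ Q, Commute k a := by
    intro a ha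
    have h1 : a * k * a⁻¹ * k⁻¹ ∈ K := mul_mem (hEK a ha.1 k hk) (inv_mem hk)
    have h2 : a * k * a⁻¹ * k⁻¹ ∈ Q := by
      have : a * k * a⁻¹ * k⁻¹ = a * (k * a⁻¹ * k⁻¹) := by group
      rw [this]
      exact mul_mem ha.2 (hkQ _ (inv_mem ha.2))
    have h3 := hinQ _ h1 h2
    rw [mul_inv_eq_one, mul_inv_eq_iff_eq_mul] at h3
    exact h3.symm
  refine hinQ k hk (hCQ k (mem_centralizer_singleton_iff.1 (hK hk)) ?_)
  exact C.centralise_of_coprime hkQ hko inf_le_right
    (fun a ha b hb => hab a ha.1 b hb.1) h27 hkA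

/-- Every hyperplane of the minus type space contains a singular point. -/
theorem exists_singular_of_card (B : AddSubgroup V4) (hB : 27 ≤ Nat.card B) :
    ∃ v ∈ B, v ≠ 0 ∧ qf v = 0 := by
  let B' : Submodule (ZMod 3) V4 := AddSubgroup.toZModSubmodule 3 B
  have hdec : ∀ a : V4, a ≠ 0 →
      ∃ v : V4, v ≠ 0 ∧ qf v = 0 ∧ a 0 * v 0 + a 1 * v 1 + a 2 * v 2 + a 3 * v 3 = 0 := by
    decide +kernel
  by_cases htop : B' = ⊤
  · exact ⟨e0, (htop ▸ Submodule.mem_top : e0 ∈ B'), by decide, by decide⟩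
  obtain ⟨f, hf, hle⟩ := Submodule.exists_le_ker_of_lt_top B' (lt_top_iff_ne_top.2 htop)
  have hfv : ∀ v : V4, f v = f (Pi.single 0 1) * v 0 + f (Pi.single 1 1) * v 1 +
      f (Pi.single 2 1) * v 2 + f (Pi.single 3 1) * v 3 := by
    intro v
    conv_lhs => rw [pi_eq_sum_univ' v]
    rw [map_sum, Fin.sum_univ_four]
    simp only [map_smul, smul_eq_mul]
    ring
  obtain ⟨v, hv0, hvq, hfv0⟩ := hdec ![f (Pi.single 0 1), f (Pi.single 1 1), f (Pi.single 2 1),
    f (Pi.single 3 1)] fun h => hf (LinearMap.ext fun v => by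
      have h0 := congrFun h 0
      have h1 := congrFun h 1
      have h2 := congrFun h 2
      have h3 := congrFun h 3
      simp at h0 h1 h2 h3
      rw [hfv, h0, h1, h2, h3]
      simp)
  refine ⟨v, ?_, hv0, hvq⟩
  have hk : v ∈ LinearMap.ker f := by
    rw [LinearMap.mem_ker, hfv]
    simpa using hfv0
  have hker : (LinearMap.ker f).toAddSubgroup = B := by
    refine (AddSubgroup.eq_of_le_of_card_ge hle ?_).symm
    have hd := AddSubgroup.card_addSubgroup_dvd_card (LinearMap.ker f).toAddSubgroup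
    rw [show Nat.card V4 = 3 ^ 4 by simp [Nat.card_eq_fintype_card, V4]] at hd
    obtain ⟨e, he, hfe⟩ := (Nat.dvd_prime_pow Nat.prime_three).1 hd
    rcases (show e ≤ 3 ∨ e = 4 by omega) with he3 | rfl
    · rw [hfe]
      exact (Nat.pow_le_pow_right (by norm_num) he3).trans (le_trans (by norm_num) hB)
    · exfalso
      have ht : (LinearMap.ker f).toAddSubgroup = ⊤ :=
        AddSubgroup.eq_top_of_card_eq _ (hfe.trans (by simp [Nat.card_eq_fintype_card, V4]))
      exact hf (LinearMap.ext fun w =>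
        (show w ∈ (LinearMap.ker f).toAddSubgroup from ht ▸ AddSubgroup.mem_top w))
  exact hker ▸ hk

/-- The homomorphism given by the coordinates. -/
def elHom (el : V4 → G) (h : ∀ u v, el (u + v) = el u * el v) : Multiplicative V4 →* G where
  toFun v := el v.toAdd
  map_one' := by simpa using h 0 0
  map_mul' u v := h _ _

/-- No non-trivial signaliser of the elementary abelian subgroup of order 81. -/
theorem no_sig_of [Finite G] (el : V4 → G) (el_add : ∀ u v, el (u + v) = el u * el v)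
    (el_inj : Function.Injective el) (hfused : ∀ v, v ≠ 0 → qf v = 0 → ∃ g : G, g * z * g⁻¹ = el v)
    (C : Core Q z) (hQz : Q ≤ centralizer {z})
    (hQn : ∀ g ∈ centralizer ({z} : Set G), ∀ q ∈ Q, g * q * g⁻¹ ∈ Q)
    (hCQ : ∀ g : G, Commute g z → (∀ q ∈ Q, Commute g q) → g ∈ Q)
    (hcard : Nat.card ↥(centralizer ({z} : Set G)) = 243 * 1920)
    (K : Subgroup G) (hK : (Nat.card K).Coprime 3)
    (hJK : ∀ v, ∀ k ∈ K, el v * k * (el v)⁻¹ ∈ K) : K = ⊥ := by
  set J : Subgroup G := (elHom el el_add).range with hJ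
  have hinj : Function.Injective (elHom el el_add) := fun a b h => el_inj h
  have hJc : Nat.card J = 81 := by
    rw [hJ, ← Nat.card_congr (MonoidHom.ofInjective hinj).toEquiv]
    simp [Nat.card_eq_fintype_card, V4]
  have hmem : ∀ {x : G}, x ∈ J ↔ ∃ v, el v = x :=
    ⟨fun ⟨v, hv⟩ => ⟨v.toAdd, hv⟩, fun ⟨v, hv⟩ => ⟨Multiplicative.ofAdd v, hv⟩⟩
  have hcomm : ∀ a ∈ J, ∀ b ∈ J, a * b = b * a := by
    intro a ha b hb
    obtain ⟨u, rfl⟩ := hmem.1 ha
    obtain ⟨v, rfl⟩ := hmem.1 hb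
    rw [← el_add, ← el_add, add_comm]
  have hJel : Cfsg.IsElementaryAbelian 3 J := by
    refine ⟨⟨⟨fun a b => Subtype.ext (hcomm a a.2 b b.2)⟩⟩, ?_⟩
    rintro a ⟨v, rfl⟩
    rw [← map_pow]
    rw [show v ^ 3 = 1 from ?_, map_one]
    refine Multiplicative.toAdd.injective ?_
    rw [toAdd_pow, toAdd_one]
    funext i
    simp only [Pi.smul_apply, nsmul_eq_mul, Pi.zero_apply]
    rw [show ((3 : ℕ) : ZMod 3) = 0 from rfl, zero_mul]
  haveI : Fact (Nat.Prime 3) := ⟨Nat.prime_three⟩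
  have hn : J ≤ normalizer (K : Set G) := by
    intro a ha
    obtain ⟨v, rfl⟩ := hmem.1 ha
    refine mem_normalizer_iff.2 fun k => ⟨hJK v k, fun hk => ?_⟩
    have h := hJK (-v) _ hk
    have hv : el (-v) = (el v)⁻¹ := eq_inv_of_mul_eq_one_left (by
      rw [← el_add, neg_add_cancel]
      exact (elHom el el_add).map_one)
    rw [hv] at h
    simpa [mul_assoc] using h
  have hcop : (Nat.card J).Coprime (Nat.card K) := by
    rw [hJc]
    exact (Nat.Coprime.pow_left 4 hK.symm)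
  refine eq_bot_iff.2 ((CoprimeLength.le_iSup_hyperplanes J K hJel (by rw [hJc]; norm_num) hn hcop).trans
    (iSup_le fun B => ?_))
  obtain ⟨B, hBJ, hBc⟩ := B
  rw [hJc] at hBc
  let B' : AddSubgroup V4 :=
    { carrier := {v | el v ∈ B}
      add_mem' := fun {u v} hu hv => by show el (u + v) ∈ B; rw [el_add]; exact mul_mem hu hv
      zero_mem' := by
        show el 0 ∈ B
        rw [show el 0 = 1 from (elHom el el_add).map_one]
        exact B.one_mem
      neg_mem' := fun {v} hv => by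
        show el (-v) ∈ B
        rw [show el (-v) = (el v)⁻¹ from eq_inv_of_mul_eq_one_left (by
          rw [← el_add, neg_add_cancel]; exact (elHom el el_add).map_one)]
        exact inv_mem hv }
  have hB' : 27 ≤ Nat.card B' := by
    have h : Nat.card B ≤ Nat.card B' :=
      Nat.card_le_card_of_injective
        (fun b : B => (⟨(hmem.1 (hBJ b.2)).choose, by
          show el _ ∈ B
          rw [(hmem.1 (hBJ b.2)).choose_spec]
          exact b.2⟩ : B'))
        (fun a b hab => Subtype.ext (by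
          rw [← (hmem.1 (hBJ a.2)).choose_spec, ← (hmem.1 (hBJ b.2)).choose_spec]
          exact congrArg (fun w : B' => el w.1) hab))
    omega
  obtain ⟨v, hvB, hv0, hvq⟩ := exists_singular_of_card B' hB'
  obtain ⟨g, hg⟩ := hfused v hv0 hvq
  intro k hk
  rw [mem_bot]
  set φ : G →* G := (MulAut.conj g⁻¹).toMonoidHom with hφ
  have hφi : Function.Injective φ := (MulAut.conj g⁻¹).injective
  have hφz : φ (el v) = z := by
    rw [← hg, hφ, MulEquiv.toMonoidHom_eq_coe, MonoidHom.coe_coe, MulAut.conj_apply]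
    group
  set K₁ := (K ⊓ centralizer ({el v} : Set G))
  have h1 : K₁.map φ = ⊥ := by
    refine C.sig_trivial hQz hQn hCQ hcard (E := J.map φ) ?_ ?_ ?_ ?_ ?_ ?_
    · rintro _ ⟨a, ha, rfl⟩
      rw [mem_centralizer_singleton_iff, ← hφz, ← map_mul, ← map_mul,
        hcomm a ha (el v) (hmem.2 ⟨v, rfl⟩)]
    · rintro _ ⟨a, ha, rfl⟩ _ ⟨b, hb, rfl⟩
      rw [← map_mul, ← map_mul, hcomm a ha b hb]
    · rw [Nat.card_congr (equivMapOfInjective J φ hφi).toEquiv.symm, hJc]
    · rintro _ ⟨a, ha, rfl⟩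
      rw [mem_centralizer_singleton_iff, ← hφz, ← map_mul, ← map_mul,
        mem_centralizer_singleton_iff.1 ha.2]
    · rw [Nat.card_congr (equivMapOfInjective K₁ φ hφi).toEquiv.symm]
      exact hK.coprime_dvd_left (card_dvd_of_le inf_le_left)
    · rintro _ ⟨a, ha, rfl⟩ _ ⟨b, hb, rfl⟩
      rw [← map_inv, ← map_mul, ← map_mul]
      refine mem_map_of_mem _ ⟨(mem_normalizer_iff.1 (hn ha) b).1 hb.1, ?_⟩
      have h1 : Commute a (el v) := hcomm a ha (el v) (hmem.2 ⟨v, rfl⟩)
      have h2 : Commute b (el v) := mem_centralizer_singleton_iff.1 hb.2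
      exact mem_centralizer_singleton_iff.2 ((h1.mul_left h2).mul_left h1.inv_left).eq
  have hkK₁ : k ∈ K₁ :=
    ⟨hk.1, mem_centralizer_singleton_iff.2 (mem_centralizer_iff.1 hk.2 (el v) hvB).symm⟩
  have h2 : φ k ∈ K₁.map φ := mem_map_of_mem _ hkK₁
  rw [h1, mem_bot, ← map_one φ] at h2
  exact hφi h2

/-- An element centralising the centre and a point off the tangent hyperplane normalises the subgroup. -/
theorem secant_of (el : V4 → G) (el_add : ∀ u v, el (u + v) = el u * el v)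
    (hQn : ∀ g ∈ centralizer ({z} : Set G), ∀ q ∈ Q, g * q * g⁻¹ ∈ Q)
    (hQJ : ∀ v, el v ∈ Q ↔ v 3 = 0) {v : V4} (hv : v 3 ≠ 0)
    (hfix : ∀ x ∈ Q, Commute x (el v) → ∃ w, x = el w)
    {g : G} (hgz : Commute g z) (hgv : Commute g (el v)) (u : V4) :
    ∃ w, g * el u * g⁻¹ = el w := by
  have hcomm : ∀ a b, Commute (el a) (el b) := fun a b =>
    show el a * el b = el b * el a by rw [← el_add, ← el_add, add_comm]
  have hsq : ∀ c : ZMod 3, c ≠ 0 → c * c = 1 := by decide
  set u' : V4 := u - (u 3 * v 3) • v with hu'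
  have hu3 : u' 3 = 0 := by
    show u 3 - u 3 * v 3 * v 3 = 0
    rw [mul_assoc, hsq _ hv, mul_one, sub_self]
  have hQ' : g * el u' * g⁻¹ ∈ Q :=
    hQn g (mem_centralizer_singleton_iff.2 hgz.eq) _ ((hQJ u').2 hu3)
  obtain ⟨w, hw⟩ := hfix _ hQ' (by
    have h : Commute g (el v) := hgv
    exact (h.mul_left (hcomm u' v)).mul_left h.inv_left)
  have hnat : ∀ (n : ℕ), g * el ((n : ZMod 3) • v) * g⁻¹ = el ((n : ZMod 3) • v) := by
    intro n
    have hpow : el ((n : ZMod 3) • v) = (elHom el el_add) (Multiplicative.ofAdd v) ^ n := by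
      rw [← map_pow, Nat.cast_smul_eq_nsmul, ← ofAdd_nsmul]
      rfl
    rw [hpow]
    show g * el v ^ n * g⁻¹ = el v ^ n
    rw [(hgv.pow_right n).eq, mul_inv_cancel_right]
  refine ⟨w + (u 3 * v 3) • v, ?_⟩
  have hu : u = u' + (u 3 * v 3) • v := by rw [hu', sub_add_cancel]
  rw [show el u = el u' * el ((u 3 * v 3) • v) by rw [← el_add, ← hu], el_add, ← hw]
  have h := hnat (u 3 * v 3).val
  rw [ZMod.natCast_rightInverse] at h
  calc g * (el u' * el ((u 3 * v 3) • v)) * g⁻¹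
      = g * el u' * g⁻¹ * (g * el ((u 3 * v 3) • v) * g⁻¹) := by group
    _ = g * el u' * g⁻¹ * el ((u 3 * v 3) • v) := by rw [h]

end Cfsg.Agent.Co2Three
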