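import Cfsg.Agent.Lib.Co2Three.Defs
import Mathlib.LinearAlgebra.Matrix.ToLin
import Mathlib.Algebra.Module.ZMod
import Mathlib.Tactic.LinearCombination
import Mathlib.Tactic.Ring

/-!
A linear map preserving the singular vectors of the minus type space is a similitude, so the normaliser of the
elementary abelian subgroup induces similitudes.
-/

set_option autoImplicit false

namespace Cfsg.Agent.Co2Three

open Matrix

theorem qf_mulVec (M : Matrix (Fin 4) (Fin 4) (ZMod 3)) : ∃ c : Fin 4 → Fin 4 → ZMod 3, ∀ v : V4,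
    qf (M.mulVec v) = c 0 0 * (v 0 * v 0) + c 1 1 * (v 1 * v 1) + c 2 2 * (v 2 * v 2) + c 3 3 * (v 3 * v 3)
      + c 0 1 * (v 0 * v 1) + c 0 2 * (v 0 * v 2) + c 0 3 * (v 0 * v 3) + c 1 2 * (v 1 * v 2)
      + c 1 3 * (v 1 * v 3) + c 2 3 * (v 2 * v 3) := by
  refine ⟨fun i j => if i = j then qf (fun k => M k i) else bf (fun k => M k i) (fun k => M k j), fun v => ?_⟩
  have h : ∀ k : Fin 4, M.mulVec v k = M k 0 * v 0 + M k 1 * v 1 + M k 2 * v 2 + M k 3 * v 3 := fun k => by
    simp [Matrix.mulVec, dotProduct, Fin.sum_univ_four]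
  simp only [qf, bf, h, ↓reduceIte, Fin.reduceEq]
  ring

/-- A map sending singular vectors to singular vectors is a similitude. -/
theorem isSim_of_singular (M : Matrix (Fin 4) (Fin 4) (ZMod 3)) (hinj : ∀ v, M.mulVec v = 0 → v = 0)
    (h : ∀ v, v ≠ 0 → qf v = 0 → qf (M.mulVec v) = 0) : IsSim M := by
  obtain ⟨c, hc⟩ := qf_mulVec M
  have e : ∀ v : V4, v ≠ 0 → qf v = 0 → _ = (0 : ZMod 3) := fun v h1 h2 => (hc v).symm.trans (h v h1 h2)
  have a0 := e ![1, 0, 0, 0] (by decide) (by decide)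
  have a3 := e ![0, 0, 0, 1] (by decide) (by decide)
  have p1 := e ![1, 1, 0, 1] (by decide) (by decide)
  have m1 := e ![1, -1, 0, 1] (by decide) (by decide)
  have p2 := e ![1, 0, 1, 1] (by decide) (by decide)
  have m2 := e ![1, 0, -1, 1] (by decide) (by decide)
  have pp := e ![1, 1, 1, -1] (by decide) (by decide)
  have pm := e ![1, 1, -1, -1] (by decide) (by decide)
  have mp := e ![1, -1, 1, -1] (by decide) (by decide)
  have mm := e ![1, -1, -1, -1] (by decide) (by decide)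
  have h3 : (3 : ZMod 3) = 0 := rfl
  simp only [cons_val, mul_one, mul_zero, add_zero, zero_add, mul_neg,
    neg_neg] at a0 a3 p1 m1 p2 m2 pp pm mp mm
  have s1 : c 1 1 = -c 0 3 := by
    linear_combination 2 * p1 + 2 * m1 - 4 * a0 - 4 * a3 - (c 1 1 + c 0 3) * h3
  have s2 : c 2 2 = -c 0 3 := by
    linear_combination 2 * p2 + 2 * m2 - 4 * a0 - 4 * a3 - (c 2 2 + c 0 3) * h3
  have u1 : c 0 1 = 0 := by
    linear_combination p1 - m1 + 2 * pp + 2 * pm - 2 * mp - 2 * mm - (3 * c 0 1 - 2 * c 1 3) * h3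
  have u1' : c 1 3 = 0 := by
    linear_combination 2 * (p1 - m1) - c 1 3 * h3 - 4 * u1
  have u2 : c 0 2 = 0 := by
    linear_combination p2 - m2 + 2 * pp - 2 * pm + 2 * mp - 2 * mm - (3 * c 0 2 - 2 * c 2 3) * h3
  have u2' : c 2 3 = 0 := by
    linear_combination 2 * (p2 - m2) - c 2 3 * h3 - 4 * u2
  have u12 : c 1 2 = 0 := by
    linear_combination pp - pm - mp + mm - c 1 2 * h3
  have hq : ∀ v, qf (M.mulVec v) = c 0 3 * qf v := fun v => by
    rw [hc v, a0, a3, s1, s2, u1, u1', u2, u2', u12]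
    simp only [qf]
    ring
  have hcases : ∀ x : ZMod 3, x = 0 ∨ x = 1 ∨ x = -1 := by decide
  rcases hcases (c 0 3) with h0 | h1 | h1
  · exfalso
    have hi : Function.Injective M.mulVec := fun u w huw => sub_eq_zero.1 (hinj _ (by
      rw [Matrix.mulVec_sub, huw, sub_self]))
    obtain ⟨v, hv⟩ := (Finite.injective_iff_surjective.1 hi) ![1, 0, 0, 1]
    have := hq v
    rw [hv, h0, zero_mul] at this
    exact absurd this (by decide)
  · exact Or.inl fun v => by rw [hq, h1, one_mul]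
  · exact Or.inr fun v => by rw [hq, h1, neg_one_mul]

/-- The normaliser induces similitudes. -/
theorem norm_sim_of {G : Type*} [Group G] {z : G} (el : V4 → G) (el_add : ∀ u v, el (u + v) = el u * el v)
    (el_inj : Function.Injective el)
    (fused : ∀ v, v ≠ 0 → ((∃ g : G, g * z * g⁻¹ = el v) ↔ qf v = 0))
    (g : G) (hg : ∀ v, ∃ w, g * el v * g⁻¹ = el w) :
    ∃ M : Matrix (Fin 4) (Fin 4) (ZMod 3), IsSim M ∧ ∀ v, g * el v * g⁻¹ = el (M.mulVec v) := by
  choose f hf using hg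
  have fadd : ∀ u v, f (u + v) = f u + f v := fun u v => el_inj (by
    rw [← hf, el_add, el_add, ← hf, ← hf]
    group)
  let φ : V4 →ₗ[ZMod 3] V4 := (AddMonoidHom.mk' f fadd).toZModLinearMap 3
  have hφ : ∀ v, (LinearMap.toMatrix' φ).mulVec v = f v := fun v => by
    rw [← Matrix.toLin'_apply, Matrix.toLin'_toMatrix']
    rfl
  refine ⟨LinearMap.toMatrix' φ, isSim_of_singular _ (fun v hv => el_inj ?_) (fun v hv0 hvq => ?_), fun v => by
    rw [hφ, hf]⟩
  · rw [hφ] at hv
    have h : g * el v * g⁻¹ = g * el 0 * g⁻¹ := by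
      rw [hf, hv, hf 0]
      congr 1
      exact ((AddMonoidHom.mk' f fadd).map_zero).symm
    simpa using h
  · rw [hφ]
    have hne : f v ≠ 0 := fun h0 => hv0 (el_inj (by
      have h : g * el v * g⁻¹ = g * el 0 * g⁻¹ := by
        rw [hf, h0, hf 0]
        congr 1
        exact ((AddMonoidHom.mk' f fadd).map_zero).symm
      simpa using h))
    obtain ⟨x, hx⟩ := (fused v hv0).2 hvq
    refine (fused (f v) hne).1 ⟨g * x, ?_⟩
    rw [← hf, ← hx]
    group

end Cfsg.Agent.Co2Three
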